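import Cfsg.Agent.Lib.MinNonCA.Pure
import Cfsg.Agent.Lib.Recognition.OneToFive.Basic

/-!
# Minimal non-CA non-solvable groups: the witness and the radical

A witness can be taken of prime order modulo the centre with maximal centraliser; the solvable radical
is the centre and there is a perfect normal subgroup with trivial centraliser modulo the centre and
simple central quotient.
-/

set_option autoImplicit false
set_option linter.style.haveILetI false
set_option linter.unusedSectionVars false

universe u

namespace CfsgLib.MinNonCA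

open Subgroup

variable {G : Type u} [Group G]

/-- The centraliser in `H` of a non-central element of `H` is abelian. -/
def CA (H : Subgroup G) : Prop :=
  ∀ x ∈ H, ∀ y ∈ H, ¬ Commute x y → ∀ a ∈ H, ∀ b ∈ H, Commute x a → Commute x b → Commute a b

/-- Non-solvable and every proper subgroup a CA-group. -/
structure Minimal (G : Type u) [Group G] : Prop where
  nonsolv : ¬ Group.IsSolvable G
  proper : ∀ H : Subgroup G, H ≠ ⊤ → CA H

/-- A witness of prime order modulo the centre. -/
structure Witness (z : G) (r : ℕ) : Prop where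
  prime : r.Prime
  not_central : z ∉ center G
  pow_mem : z ^ r ∈ center G
  max : IsCoatom (centralizer ({z} : Set G))
  nonab : ∃ a ∈ centralizer ({z} : Set G), ∃ b ∈ centralizer ({z} : Set G), ¬ Commute a b

theorem mem_centralizer_of_commute {z a : G} (h : Commute z a) :
    a ∈ centralizer ({z} : Set G) :=
  mem_centralizer_singleton_iff.2 h.symm.eq

theorem commute_of_mem_centralizer {z a : G} (h : a ∈ centralizer ({z} : Set G)) : Commute z a :=
  (mem_centralizer_singleton_iff.1 h).symm

theorem exists_not_commute {x : G} (h : x ∉ center G) : ∃ g, ¬ Commute x g := by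
  by_contra hh
  push Not at hh
  exact h (mem_center_iff.2 fun g => (hh g).symm.eq)

/-- A proper subgroup with two non-commuting elements centralised by one of its elements is
centralised by it. -/
theorem Minimal.absorb (hM : Minimal G) {H : Subgroup G} (hH : H ≠ ⊤) {z a b : G} (hz : z ∈ H)
    (ha : a ∈ H) (hb : b ∈ H) (hza : Commute z a) (hzb : Commute z b) (hab : ¬ Commute a b) :
    H ≤ centralizer ({z} : Set G) := fun y hy => mem_centralizer_of_commute (by
  by_contra hzy
  exact hab (hM.proper H hH z hz y hy hzy a ha b hb hza hzb))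

variable [Finite G]

/-- A failure of the CA-property in the whole group gives a witness. -/
theorem Minimal.exists_witness (hM : Minimal G) (hnot : ¬ CA (⊤ : Subgroup G)) :
    ∃ (z : G) (r : ℕ), Witness z r := by
  classical
  unfold CA at hnot
  push Not at hnot
  obtain ⟨x, -, y, -, hxy, a, -, b, -, hxa, hxb, hab⟩ := hnot
  have htop : ∀ w : G, w ∉ center G → centralizer ({w} : Set G) ≠ ⊤ := fun w hw e => hw
    (mem_center_iff.2 fun g => mem_centralizer_singleton_iff.1 (e.ge (mem_top g)))
  have hxc : x ∉ center G := fun h => hxy (Subgroup.mem_center_iff.1 h y).symm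
  have hmax : IsCoatom (centralizer ({x} : Set G)) := ⟨htop x hxc, fun H hH => by
    by_contra hne
    exact hH.not_ge (hM.absorb hne (hH.le (mem_centralizer_of_commute (Commute.refl x)))
      (hH.le (mem_centralizer_of_commute hxa)) (hH.le (mem_centralizer_of_commute hxb)) hxa hxb hab)⟩
  have hex : ∃ n, 0 < n ∧ x ^ n ∈ center G :=
    ⟨orderOf x, orderOf_pos x, by rw [pow_orderOf_eq_one]; exact one_mem _⟩
  obtain ⟨hn0, hn⟩ := Nat.find_spec hex
  set n := Nat.find hex
  have hn1 : n ≠ 1 := fun e => hxc (by rw [← pow_one x, ← e]; exact hn)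
  have hp := Nat.minFac_prime hn1
  set z := x ^ (n / n.minFac) with hz
  have hlt : n / n.minFac < n := Nat.div_lt_self hn0 hp.one_lt
  have hpos : 0 < n / n.minFac :=
    Nat.div_pos (Nat.le_of_dvd hn0 (Nat.minFac_dvd n)) hp.pos
  have hzc : z ∉ center G := fun h => Nat.find_min hex hlt ⟨hpos, h⟩
  have hle : centralizer ({x} : Set G) ≤ centralizer ({z} : Set G) := fun g hg =>
    mem_centralizer_of_commute ((commute_of_mem_centralizer hg).pow_left _)
  have heq : centralizer ({z} : Set G) = centralizer ({x} : Set G) :=
    (coatom_cases hmax hle).resolve_right (htop z hzc)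
  refine ⟨z, n.minFac, hp, hzc, ?_, heq ▸ hmax, a, hle (mem_centralizer_of_commute hxa), b,
    hle (mem_centralizer_of_commute hxb), hab⟩
  rw [hz, ← pow_mul, Nat.div_mul_cancel (Nat.minFac_dvd n)]
  exact hn

/-- A normal non-solvable proper subgroup has central centraliser. -/
theorem Minimal.centralizer_le_center (hM : Minimal G) (N : Subgroup G) [N.Normal] (hN : N ≠ ⊤)
    (hns : ¬ Group.IsSolvable N) : centralizer (N : Set G) ≤ center G := by
  intro v hv
  by_contra hvc
  obtain ⟨p, hp, P, hPn, a, ha, b, hb, hab⟩ := exists_sylow_normalizer hns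
  have hsup := Sylow.normalizer_sup_eq_top P
  set P' := (P : Subgroup N).map N.subtype with hP'
  have hH : normalizer (P' : Set G) ≠ ⊤ := fun e => hPn (by
    haveI : P'.Normal := normalizer_eq_top_iff.1 e
    rw [← comap_map_eq_self_of_injective N.subtype_injective (P : Subgroup N)]
    exact Normal.comap ‹P'.Normal› N.subtype)
  have hvH : v ∈ normalizer (P' : Set G) := mem_normalizer_of_conj_mem fun w hw => by
    obtain ⟨w', hw', rfl⟩ := hw
    rw [← mem_centralizer_iff.1 hv (N.subtype w') w'.2, mul_inv_cancel_right]
    exact ⟨w', hw', rfl⟩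
  have hmem : ∀ c ∈ normalizer ((P : Subgroup N) : Set N), (c : G) ∈ normalizer (P' : Set G) :=
    fun c hc => mem_normalizer_of_conj_mem fun w hw => by
      obtain ⟨w', hw', rfl⟩ := hw
      exact ⟨c * w' * c⁻¹, (mem_normalizer_iff.1 hc w').1 hw', by simp⟩
  have hle := hM.absorb hH hvH (hmem a ha) (hmem b hb) (mem_centralizer_iff.1 hv _ a.2).symm
    (mem_centralizer_iff.1 hv _ b.2).symm fun h => hab (Subtype.ext h.eq)
  refine hvc (mem_center_iff.2 fun g => mem_centralizer_singleton_iff.1 ?_)
  exact (hsup.symm.le.trans (sup_le hle fun w hw =>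
    mem_centralizer_of_commute (mem_centralizer_iff.1 hv w hw).symm)) (mem_top g)

variable {z : G} {r : ℕ}

/-- Every solvable normal subgroup centralises the witness. -/
theorem Witness.solvable_le (W : Witness z r) (hM : Minimal G) (N : Subgroup G) [N.Normal]
    (hN : Group.IsSolvable N) : N ≤ centralizer ({z} : Set G) := by
  set M := centralizer ({z} : Set G) with hMdef
  by_contra hle
  have htop : N ⊔ M = ⊤ := W.max.2 _ (lt_of_le_of_ne le_sup_right fun e => hle (le_sup_left.trans e.ge))
  have hMs : ¬ Group.IsSolvable M := fun h => hM.nonsolv (by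
    haveI := h
    haveI := hN
    haveI : Group.IsSolvable (G ⧸ N) := Group.isSolvable_of_surjective
      (f := (QuotientGroup.mk' N).comp M.subtype) fun q => by
        obtain ⟨c, rfl⟩ := QuotientGroup.mk'_surjective N q
        obtain ⟨y, hy, m, hm, rfl⟩ := mem_sup_of_normal_left.1 (htop.ge (mem_top c))
        exact ⟨⟨m, hm⟩, by simp [(QuotientGroup.eq_one_iff y).2 hy]⟩
    exact Group.isSolvable_of_ker_le_range N.subtype (QuotientGroup.mk' N)
      (by rw [QuotientGroup.ker_mk', range_subtype]))
  haveI hZs : Group.IsSolvable (center M) := Group.isSolvable_of_comm fun a b =>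
    Subtype.ext (mem_center_iff.1 b.2 a)
  haveI hNs : Group.IsSolvable (N.subgroupOf M) := by
    haveI := hN
    exact Group.isSolvable_of_isSolvable_injective
      (f := ((M.subtype).comp (N.subgroupOf M).subtype).codRestrict N fun c => c.2) fun a b h => by
        ext
        exact congrArg (fun t : ↥N => (t : G)) h
  obtain ⟨X, hX, hXtop, a, ha, b, hb, hab⟩ := exists_nonabelian_over hMs (N.subgroupOf M ⊔ center M)
    (CfsgLib.Recognition.OneToFive.solvable_sup _ _ hNs hZs)
  have hzX : (⟨z, mem_centralizer_singleton_iff.2 rfl⟩ : M) ∈ X :=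
    hX (le_sup_right (a := N.subgroupOf M) (mem_center_iff.2 fun g =>
      Subtype.ext (mem_centralizer_singleton_iff.1 g.2)))
  set X' := X.map M.subtype with hX'
  have hXM : X' ≤ M := map_subtype_le _
  have hH : N ⊔ X' ≠ ⊤ := fun e => hXtop (eq_top_iff.2 fun m _ => by
    obtain ⟨y, hy, w, hw, hyw⟩ := mem_sup_of_normal_left.1 (e.ge (mem_top (m : G)))
    have hyM : y ∈ M := by
      rw [show y = (m : G) * w⁻¹ by rw [← hyw]; group]
      exact mul_mem m.2 (inv_mem (hXM hw))
    obtain ⟨w', hw', rfl⟩ := hw
    rw [show m = (⟨y, hyM⟩ : M) * w' from Subtype.ext hyw.symm]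
    exact mul_mem (hX (le_sup_left (b := center M) (mem_subgroupOf.2 hy))) hw')
  exact hle (le_sup_left.trans (hM.absorb hH (le_sup_right (a := N) ⟨_, hzX, rfl⟩)
    (le_sup_right (a := N) ⟨a, ha, rfl⟩) (le_sup_right (a := N) ⟨b, hb, rfl⟩)
    (commute_of_mem_centralizer a.2) (commute_of_mem_centralizer b.2)
    fun h => hab (Subtype.ext h.eq)))

/-- Every solvable normal subgroup is central. -/
theorem Witness.solvable_central (W : Witness z r) (hM : Minimal G) (N : Subgroup G) [N.Normal]
    (hN : Group.IsSolvable N) : N ≤ center G := by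
  by_contra hNc
  have hzN : z ∈ centralizer (N : Set G) := mem_centralizer_iff.2 fun n hn =>
    mem_centralizer_singleton_iff.1 (W.solvable_le hM N hN hn)
  -- the centraliser of a non-central normal solvable subgroup is solvable
  have key : ∀ (K : Subgroup G) [K.Normal], ¬ K ≤ center G →
      Group.IsSolvable (centralizer (K : Set G)) := by
    intro K _ hKc
    by_contra hs
    refine hKc fun w hw => hM.centralizer_le_center (centralizer (K : Set G)) (fun e => hKc ?_) hs
      (mem_centralizer_iff.2 fun c hc => (mem_centralizer_iff.1 hc w hw).symm)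
    exact fun w hw => mem_center_iff.2 fun g => (mem_centralizer_iff.1 (e.ge (mem_top g)) w hw).symm
  set C := centralizer (N : Set G) with hC
  have hCle := W.solvable_le hM C (key N hNc)
  set V := normalClosure ({z} : Set G) with hV
  have hVC : V ≤ C := normalClosure_le_normal (Set.singleton_subset_iff.2 hzN)
  haveI : (centralizer (C : Set G)).Normal := inferInstance
  have hVC' : V ≤ centralizer (C : Set G) := normalClosure_le_normal (Set.singleton_subset_iff.2
    (mem_centralizer_iff.2 fun c hc => mem_centralizer_singleton_iff.1 (hCle hc)))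
  have hzV : z ∈ V := subset_normalClosure rfl
  have hVc : ¬ V ≤ center G := fun h => W.not_central (h hzV)
  set C1 := centralizer (V : Set G) with hC1
  haveI hC1s := key V hVc
  have hVC1 : V ≤ C1 := fun v hv => mem_centralizer_iff.2 fun w hw =>
    mem_centralizer_iff.1 (hVC' hv) w (hVC hw)
  set M := centralizer ({z} : Set G) with hMdef
  have hC1M : C1 ≤ M := centralizer_le (Set.singleton_subset_iff.2 hzV)
  have hQ : ¬ Group.IsSolvable (G ⧸ C1) := fun h => hM.nonsolv (by
    haveI := h
    exact Group.isSolvable_of_ker_le_range C1.subtype (QuotientGroup.mk' C1)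
      (by rw [QuotientGroup.ker_mk', range_subtype]))
  have hsurj := QuotientGroup.mk'_surjective C1
  have hMco : IsCoatom (M.map (QuotientGroup.mk' C1)) := by
    refine ⟨fun e => W.max.1 ?_, fun K hK => ?_⟩
    · show M = ⊤
      rw [← comap_map_eq_self (f := QuotientGroup.mk' C1) (H := M) (by
        rw [QuotientGroup.ker_mk']; exact hC1M), e, comap_top]
    · rcases coatom_cases W.max (show M ≤ K.comap (QuotientGroup.mk' C1) from
        map_le_iff_le_comap.1 hK.le) with h | h
      · exact absurd (show K ≤ M.map (QuotientGroup.mk' C1) by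
          rw [show M = K.comap (QuotientGroup.mk' C1) from h.symm, map_comap_eq_self_of_surjective hsurj]) hK.not_ge
      · rw [← map_comap_eq_self_of_surjective hsurj K, h, map_top_of_surjective _ hsurj]
  obtain ⟨H, hH, hmeet, hHle⟩ := exists_meet hQ hMco
  obtain ⟨m, hmH, hm1⟩ : ∃ m ∈ H ⊓ M.map (QuotientGroup.mk' C1), m ≠ 1 := by
    by_contra hh
    push Not at hh
    exact hmeet (eq_bot_iff.2 fun m hm => mem_bot.2 (hh m hm))
  obtain ⟨hmH, m, hmM, rfl⟩ := hmH
  obtain ⟨v, hv, hmv⟩ : ∃ v ∈ V, ¬ Commute m v := by
    by_contra hh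
    push Not at hh
    exact hm1 ((QuotientGroup.eq_one_iff m).2
      (mem_centralizer_iff.2 fun v hv => (hh v hv).symm.eq))
  have hker : ∀ c ∈ C1, c ∈ H.comap (QuotientGroup.mk' C1) := fun c hc => by
    show (c : G ⧸ C1) ∈ H
    rw [(QuotientGroup.eq_one_iff c).2 hc]
    exact one_mem H
  have hle := hM.absorb (H := H.comap (QuotientGroup.mk' C1)) (fun e => hH (by
      rw [← map_comap_eq_self_of_surjective hsurj H, e, map_top_of_surjective _ hsurj]))
    (hker z (hVC1 hzV)) hmH (hker v (hVC1 hv)) (commute_of_mem_centralizer hmM)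
    (commute_of_mem_centralizer (hC1M (hVC1 hv))) hmv
  exact hHle (by rw [← map_comap_eq_self_of_surjective hsurj H]; exact map_mono hle)

/-- A perfect normal subgroup with simple central quotient and central centraliser. -/
theorem Witness.exists_socle (W : Witness z r) (hM : Minimal G) :
    ∃ L : Subgroup G, L.Normal ∧ ⁅L, L⁆ = L ∧ centralizer (L : Set G) ≤ center G ∧
      IsSimpleGroup (↥L ⧸ center ↥L) ∧ ¬ Group.IsSolvable L := by
  classical
  obtain ⟨L, ⟨hLn, hLs⟩, hmin⟩ :=
    (Set.toFinite {N : Subgroup G | N.Normal ∧ ¬ Group.IsSolvable N}).exists_minimal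
      ⟨⊤, inferInstance, fun h => hM.nonsolv (by
        haveI := h
        exact Group.isSolvable_of_surjective (f := (⊤ : Subgroup G).subtype)
          fun g => ⟨⟨g, mem_top g⟩, rfl⟩)⟩
  haveI := hLn
  have hsmall : ∀ N : Subgroup G, N.Normal → N ≤ L → N ≠ L → Group.IsSolvable N := by
    intro N hN hle hne
    by_contra hs
    exact hne (le_antisymm hle (hmin ⟨hN, hs⟩ hle))
  have hperf : ⁅L, L⁆ = L := by
    by_contra hne
    have hs := hsmall _ inferInstance (commutator_le_self L) hne
    refine hLs ?_
    haveI := hs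
    haveI : ((⁅L, L⁆ : Subgroup G).subgroupOf L).Normal := Normal.subgroupOf inferInstance L
    haveI hab : Group.IsSolvable (↥L ⧸ (⁅L, L⁆ : Subgroup G).subgroupOf L) :=
      Group.isSolvable_of_comm fun a b => by
        obtain ⟨a, rfl⟩ := QuotientGroup.mk'_surjective _ a
        obtain ⟨b, rfl⟩ := QuotientGroup.mk'_surjective _ b
        rw [← map_mul, ← map_mul]
        refine (QuotientGroup.eq).2 (mem_subgroupOf.2 ?_)
        have h := commutator_mem_commutator (inv_mem b.2) (inv_mem a.2)
        simpa [commutatorElement_def, mul_assoc] using h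
    haveI : Group.IsSolvable ((⁅L, L⁆ : Subgroup G).subgroupOf L) :=
      Group.isSolvable_of_surjective
        (f := (subgroupOfEquivOfLe (commutator_le_self L)).symm.toMonoidHom)
        (MulEquiv.surjective _)
    exact Group.isSolvable_of_ker_le_range ((⁅L, L⁆ : Subgroup G).subgroupOf L).subtype
      (QuotientGroup.mk' ((⁅L, L⁆ : Subgroup G).subgroupOf L)) (by rw [QuotientGroup.ker_mk', range_subtype])
  have hcent : centralizer (L : Set G) ≤ center G := by
    by_cases htop : L = ⊤
    · intro g hg
      refine mem_center_iff.2 fun h => ?_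
      exact mem_centralizer_iff.1 hg h (htop ▸ mem_top h)
    · exact hM.centralizer_le_center L htop hLs
  refine ⟨L, hLn, hperf, hcent, ?_, hLs⟩
  -- the radical of `L` is central in `G`
  obtain ⟨R, hRn, hRs, hRmax⟩ := CfsgLib.Recognition.OneToFive.exists_radical L
  haveI := hRn
  haveI := hRs
  have hRG : R.map L.subtype ≤ center G := by
    haveI : (R.map L.subtype).Normal := ⟨fun x hx g => by
      obtain ⟨x, hxR, rfl⟩ := hx
      set φ := (MulAut.conjNormal g : MulAut L).toMonoidHom
      haveI : (R.map φ).Normal := Normal.map hRn _ (MulAut.conjNormal g : MulAut L).surjective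
      have hle := hRmax (R.map φ) inferInstance
        (Group.isSolvable_of_surjective (f := φ.subgroupMap R) (φ.subgroupMap_surjective R))
      exact ⟨φ x, hle ⟨x, hxR, rfl⟩, MulAut.conjNormal_apply g x⟩⟩
    exact W.solvable_central hM _ (Group.isSolvable_of_surjective (f := L.subtype.subgroupMap R)
      (L.subtype.subgroupMap_surjective R))
  have hRZ : R ≤ center ↥L := fun x hx => mem_center_iff.2 fun g =>
    Subtype.ext (mem_center_iff.1 (hRG ⟨x, hx, rfl⟩) g)
  have hsolv : ∀ A : Subgroup ↥L, A.Normal → Group.IsSolvable A → A ≤ center ↥L :=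
    fun A hA hs => (hRmax A hA hs).trans hRZ
  -- every normal subgroup of `L` is central or everything
  have key : ∀ A : Subgroup ↥L, A.Normal → A ≤ center ↥L ∨ A = ⊤ := by
    intro A hA
    by_cases hAs : Group.IsSolvable A
    · exact Or.inl (hsolv A hA hAs)
    right
    by_cases htop : L = ⊤
    · have hAG : (A.map L.subtype).Normal :=
        Normal.map hA _ fun g => ⟨⟨g, htop ▸ mem_top g⟩, rfl⟩
      by_contra hne
      refine hAs ?_
      have := hsmall _ hAG (map_subtype_le A) fun e => hne (map_injective L.subtype_injective (by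
        rw [e, ← MonoidHom.range_eq_map, range_subtype]))
      exact Group.isSolvable_of_surjective
        (f := (A.equivMapOfInjective _ L.subtype_injective).symm.toMonoidHom)
        (MulEquiv.surjective _)
    by_contra hne
    obtain ⟨B, ⟨hBn, hBs⟩, hBA, hBmin⟩ : ∃ B : Subgroup ↥L, (B.Normal ∧ ¬ Group.IsSolvable B) ∧
        B ≤ A ∧ ∀ C : Subgroup ↥L, C.Normal → ¬ Group.IsSolvable C → C ≤ B → C = B := by
      obtain ⟨B, hBA, hB, hmin⟩ := Finite.exists_le_minimal
        (p := fun C : Subgroup ↥L => C.Normal ∧ ¬ Group.IsSolvable C) ⟨hA, hAs⟩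
      exact ⟨B, hB, hBA, fun C hC hCs hle => le_antisymm hle (hmin ⟨hC, hCs⟩ hle)⟩
    haveI := hBn
    -- a conjugate of `B` other than `B`
    obtain ⟨g, hg⟩ : ∃ g : G, B.map (MulAut.conjNormal g : MulAut L).toMonoidHom ≠ B := by
      by_contra hh
      push Not at hh
      have hBG : (B.map L.subtype).Normal := ⟨fun x hx g => by
        obtain ⟨x, hxB, rfl⟩ := hx
        exact ⟨(MulAut.conjNormal g : MulAut L) x, (hh g).le ⟨x, hxB, rfl⟩,
          MulAut.conjNormal_apply g x⟩⟩
      by_cases hBL : B.map L.subtype = L
      · exact hne (top_le_iff.1 (le_trans (le_of_eq (map_injective L.subtype_injective (by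
          rw [← MonoidHom.range_eq_map, range_subtype, hBL]))) hBA))
      · have := hsmall _ hBG (map_subtype_le B) hBL
        exact hBs (Group.isSolvable_of_surjective
          (f := (B.equivMapOfInjective _ L.subtype_injective).symm.toMonoidHom)
          (MulEquiv.surjective _))
    set φ := (MulAut.conjNormal g : MulAut L).toMonoidHom
    set B' := B.map φ with hB'
    have hφ : Function.Injective φ := (MulAut.conjNormal g : MulAut L).injective
    haveI hB'n : B'.Normal := Normal.map hBn _ (MulAut.conjNormal g : MulAut L).surjective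
    have hI : B ⊓ B' ≤ center ↥L := by
      refine hsolv _ inferInstance ?_
      by_contra hs
      have e := hBmin _ inferInstance hs inf_le_left
      refine hg (le_antisymm ?_ (e ▸ inf_le_right)).symm.symm
      have hcard : Nat.card B' = Nat.card B := card_map_of_injective hφ
      exact (eq_of_le_of_card_ge (e ▸ inf_le_right : B ≤ B') hcard.le).ge
    have hBB : ⁅B, B⁆ = B := by
      by_contra hne2
      refine hne2 (hBmin _ inferInstance (fun hs => hBs ?_) (commutator_le_self B))
      haveI := hs
      haveI : ((⁅B, B⁆ : Subgroup ↥L).subgroupOf B).Normal := Normal.subgroupOf inferInstance B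
      haveI : Group.IsSolvable (↥B ⧸ (⁅B, B⁆ : Subgroup ↥L).subgroupOf B) :=
        Group.isSolvable_of_comm fun a b => by
          obtain ⟨a, rfl⟩ := QuotientGroup.mk'_surjective _ a
          obtain ⟨b, rfl⟩ := QuotientGroup.mk'_surjective _ b
          rw [← map_mul, ← map_mul]
          refine (QuotientGroup.eq).2 (mem_subgroupOf.2 ?_)
          have h := commutator_mem_commutator (inv_mem b.2) (inv_mem a.2)
          simpa [commutatorElement_def, mul_assoc] using h
      haveI : Group.IsSolvable ((⁅B, B⁆ : Subgroup ↥L).subgroupOf B) :=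
        Group.isSolvable_of_surjective
          (f := (subgroupOfEquivOfLe (commutator_le_self B)).symm.toMonoidHom)
          (MulEquiv.surjective _)
      exact Group.isSolvable_of_ker_le_range ((⁅B, B⁆ : Subgroup ↥L).subgroupOf B).subtype
        (QuotientGroup.mk' ((⁅B, B⁆ : Subgroup ↥L).subgroupOf B)) (by rw [QuotientGroup.ker_mk', range_subtype])
    have hcomm : ⁅B, B'⁆ = ⊥ := by
      have h1 : ⁅⁅B, B'⁆, B⁆ = ⊥ := by
        rw [commutator_eq_bot_iff_le_centralizer]
        exact ((commutator_le_inf B B').trans hI).trans fun c hc =>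
          mem_centralizer_iff.2 fun y _ => mem_center_iff.1 hc y
      have h2 : ⁅⁅B', B⁆, B⁆ = ⊥ := by rwa [commutator_comm B' B]
      have h3 := commutator_commutator_eq_bot_of_rotate (H₁ := B) (H₂ := B) (H₃ := B') h1 h2
      rwa [hBB] at h3
    obtain ⟨a, ha, c, hc, hac⟩ : ∃ a ∈ B, ∃ c ∈ B, ¬ Commute a c := by
      by_contra hh
      push Not at hh
      exact hBs (Group.isSolvable_of_comm fun a c => Subtype.ext (hh a a.2 c c.2).eq)
    have hB'c : ∀ u ∈ B', ∀ v ∈ B', Commute u v := fun u hu v hv => by
      have hau : ∀ w ∈ B', Commute (a : G) w := fun w hw => by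
        have h := mem_centralizer_iff.1 ((commutator_eq_bot_iff_le_centralizer.1 hcomm) ha) w hw
        exact (congrArg Subtype.val h).symm
      exact Subtype.ext (hM.proper L htop a a.2 c c.2 (fun h => hac (Subtype.ext h.eq)) u u.2 v v.2
        (hau u hu) (hau v hv)).eq
    refine hBs ?_
    haveI : Group.IsSolvable B' := Group.isSolvable_of_comm fun u v =>
      Subtype.ext (hB'c u u.2 v v.2).eq
    exact Group.isSolvable_of_surjective
      (f := (B.equivMapOfInjective φ hφ).symm.toMonoidHom) (MulEquiv.surjective _)
  haveI : Nontrivial (↥L ⧸ center ↥L) := QuotientGroup.nontrivial_iff.2 fun e => hLs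
    (Group.isSolvable_of_comm fun a b => mem_center_iff.1 (e.ge (mem_top b)) a)
  refine ⟨fun K hK => ?_⟩
  rcases key (K.comap (QuotientGroup.mk' _)) (hK.comap _) with h | h
  · left
    rw [← map_comap_eq_self_of_surjective (QuotientGroup.mk'_surjective _) K, Subgroup.map_eq_bot_iff,
      QuotientGroup.ker_mk']
    exact h
  · right
    rw [← map_comap_eq_self_of_surjective (QuotientGroup.mk'_surjective _) K, h,
      map_top_of_surjective _ (QuotientGroup.mk'_surjective _)]

end CfsgLib.MinNonCA
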