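import Cfsg.Agent.Lib.Solvable.FPFNilpotent
import Cfsg.Agent.S0046
import Cfsg.Agent.S0205

/-!
# General lemmas for the minimal non-CA groups

A non-solvable group has a non-normal Sylow subgroup with non-abelian normaliser, a non-abelian proper
subgroup over any solvable normal subgroup, and no maximal subgroup containing every proper subgroup
it meets; in a simple group an element of prime order has no abelian self-normalising centraliser.
-/

set_option autoImplicit false
set_option linter.style.haveILetI false
set_option linter.unusedSectionVars false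

universe u

namespace CfsgLib.MinNonCA

open Subgroup
open scoped Pointwise

variable {G : Type u} [Group G]

theorem isSolvable_quotient_inf {A B : Subgroup G} [A.Normal] [B.Normal]
    (hA : Group.IsSolvable (G ⧸ A)) (hB : Group.IsSolvable (G ⧸ B)) :
    Group.IsSolvable (G ⧸ (A ⊓ B)) := by
  haveI := hA
  haveI := hB
  let f : G ⧸ (A ⊓ B) →* (G ⧸ A) × (G ⧸ B) :=
    QuotientGroup.lift (A ⊓ B) ((QuotientGroup.mk' A).prod (QuotientGroup.mk' B)) fun x hx => by
      simp [MonoidHom.mem_ker, (QuotientGroup.eq_one_iff x).2 hx.1,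
        (QuotientGroup.eq_one_iff x).2 hx.2]
  refine Group.isSolvable_of_isSolvable_injective (f := f) ?_
  rw [← MonoidHom.ker_eq_bot_iff, eq_bot_iff]
  intro x hx
  induction x using QuotientGroup.induction_on with
  | _ g =>
    have h : ((g : G ⧸ A), (g : G ⧸ B)) = 1 := hx
    rw [mem_bot, QuotientGroup.eq_one_iff]
    exact ⟨(QuotientGroup.eq_one_iff g).1 (Prod.ext_iff.1 h).1,
      (QuotientGroup.eq_one_iff g).1 (Prod.ext_iff.1 h).2⟩

variable [Finite G]

theorem coatom_cases {M H : Subgroup G} (hM : IsCoatom M) (h : M ≤ H) : H = M ∨ H = ⊤ := by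
  rcases h.lt_or_eq with hlt | heq
  · exact Or.inr (hM.2 _ hlt)
  · exact Or.inl heq.symm

theorem mem_normalizer_of_conj_mem {H : Subgroup G} {g : G} (h : ∀ x ∈ H, g * x * g⁻¹ ∈ H) :
    g ∈ normalizer (H : Set G) :=
  mem_normalizer_fintype h

theorem mem_normalizer_zpowers_of_inv {g x : G} (h : g * x * g⁻¹ ∈ zpowers x) :
    g ∈ normalizer (zpowers x : Set G) :=
  mem_normalizer_of_conj_mem fun y hy => by
    obtain ⟨i, rfl⟩ := mem_zpowers_iff.1 hy
    rw [← conj_zpow]
    exact zpow_mem h i

/-- A non-solvable group has a Sylow subgroup that is not normal and has a non-abelian normaliser. -/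
theorem exists_sylow_normalizer (hG : ¬ Group.IsSolvable G) :
    ∃ (p : ℕ) (_ : Fact p.Prime) (P : Sylow p G), ¬ (P : Subgroup G).Normal ∧
      ∃ a ∈ normalizer ((P : Subgroup G) : Set G), ∃ b ∈ normalizer ((P : Subgroup G) : Set G),
        ¬ Commute a b := by
  classical
  by_contra h
  push Not at h
  have hK : ∀ s : Finset ℕ, (∀ p ∈ s, p.Prime) → ∃ K : Subgroup G, ∃ _ : K.Normal,
      Group.IsSolvable (G ⧸ K) ∧ ∀ p ∈ s, ∀ [Fact p.Prime], ¬ p ∣ Nat.card K ∨
        ∀ P : Sylow p G, (P : Subgroup G).Normal := by
    intro s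
    induction s using Finset.induction with
    | empty =>
      intro _
      haveI : Subsingleton (G ⧸ (⊤ : Subgroup G)) := QuotientGroup.subsingleton_quotient_top
      exact ⟨⊤, inferInstance, inferInstance, by simp⟩
    | @insert p s hps ih =>
      intro hs
      haveI := Fact.mk (hs p (Finset.mem_insert_self p s))
      obtain ⟨K, hKn, hKs, hKp⟩ := ih fun q hq => hs q (Finset.mem_insert_of_mem hq)
      by_cases hn : ∀ P : Sylow p G, (P : Subgroup G).Normal
      · refine ⟨K, hKn, hKs, fun q hq => ?_⟩
        rcases Finset.mem_insert.1 hq with rfl | hq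
        · intro _; exact Or.inr hn
        · intro _; exact hKp q hq
      · push Not at hn
        obtain ⟨P, hP⟩ := hn
        have hle : normalizer ((P : Subgroup G) : Set G) ≤ centralizer ((P : Subgroup G) : Set G) :=
          fun a ha => mem_centralizer_iff.2 fun b hb =>
            (h p inferInstance P hP b (le_normalizer hb) a ha).eq
        set L := (MonoidHom.transferSylow P hle).ker with hL
        have hLs : Group.IsSolvable (G ⧸ L) := by
          haveI : Group.IsNilpotent (P : Subgroup G) := P.2.isNilpotent
          exact Group.isSolvable_of_isSolvable_injective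
            (f := QuotientGroup.kerLift (MonoidHom.transferSylow P hle))
            (QuotientGroup.kerLift_injective _)
        refine ⟨K ⊓ L, inferInstance, isSolvable_quotient_inf hKs hLs, fun q hq => ?_⟩
        intro _
        rcases Finset.mem_insert.1 hq with rfl | hq
        · exact Or.inl fun hd => MonoidHom.not_dvd_card_ker_transferSylow P hle
            (hd.trans (card_dvd_of_le inf_le_right))
        · exact (hKp q hq).imp_left fun h1 h2 => h1 (h2.trans (card_dvd_of_le inf_le_left))
  obtain ⟨K, hKn, hKs, hKp⟩ := hK (Nat.card G).primeFactors fun p hp => (Nat.prime_of_mem_primeFactors hp)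
  haveI : Group.IsNilpotent K := by
    refine ((Group.isNilpotent_of_finite_tfae (G := K)).out 0 3).2 fun p hp' Q => ?_
    haveI := hp'
    by_cases hpK : p ∣ Nat.card K
    · have hn := (hKp p (Nat.mem_primeFactors.2 ⟨Fact.out, hpK.trans (card_subgroup_dvd_card K),
        Nat.card_pos.ne'⟩)).resolve_left (not_not.2 hpK)
      obtain ⟨P, hQP⟩ := (Q.2.map K.subtype).exists_le_sylow
      haveI := hn P
      have hQ : (Q : Subgroup K) ≤ (P : Subgroup G).subgroupOf K := fun x hx =>
        mem_subgroupOf.2 (hQP ⟨x, hx, rfl⟩)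
      rw [← Q.3 (P.2.comap_of_injective K.subtype K.subtype_injective) hQ]
      exact inferInstanceAs ((P : Subgroup G).subgroupOf K).Normal
    · have : (Q : Subgroup K) = ⊥ := by
        obtain ⟨j, hj⟩ := IsPGroup.iff_card.1 Q.2
        refine card_eq_one.1 ?_
        rcases j with _ | j
        · simpa using hj
        · exact absurd ((hj ▸ dvd_pow_self p (Nat.succ_ne_zero j)).trans
            (card_subgroup_dvd_card (Q : Subgroup K))) hpK
      rw [this]; infer_instance
  haveI := hKs
  exact hG (Group.isSolvable_of_ker_le_range K.subtype (QuotientGroup.mk' K)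
    (by rw [QuotientGroup.ker_mk', range_subtype]))

/-- Over a solvable normal subgroup of a non-solvable group there is a non-abelian proper subgroup. -/
theorem exists_nonabelian_over (hG : ¬ Group.IsSolvable G) (N : Subgroup G) [N.Normal]
    (hN : Group.IsSolvable N) :
    ∃ X : Subgroup G, N ≤ X ∧ X ≠ ⊤ ∧ ∃ a ∈ X, ∃ b ∈ X, ¬ Commute a b := by
  have hQ : ¬ Group.IsSolvable (G ⧸ N) := fun h => hG (by
    haveI := h
    haveI := hN
    exact Group.isSolvable_of_ker_le_range N.subtype (QuotientGroup.mk' N)
      (by rw [QuotientGroup.ker_mk', range_subtype]))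
  obtain ⟨M, hM, hMn⟩ : ∃ M : Subgroup (G ⧸ N), IsCoatom M ∧ ¬ Group.IsNilpotent M := by
    by_contra h
    push Not at h
    exact hQ (Cfsg.Agent.S0046.result h)
  refine ⟨M.comap (QuotientGroup.mk' N), fun x hx => ?_, fun h => hM.1 ?_, ?_⟩
  · show (x : G ⧸ N) ∈ M
    rw [(QuotientGroup.eq_one_iff x).2 hx]
    exact one_mem M
  · rw [← map_comap_eq_self_of_surjective (QuotientGroup.mk'_surjective N) M, h,
      map_top_of_surjective _ (QuotientGroup.mk'_surjective N)]
  · by_contra h
    push Not at h
    refine hMn (CfsgLib.Solvable.Schmidt.isNilpotent_of_isMulCommutative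
      ⟨⟨fun ⟨a, ha⟩ ⟨b, hb⟩ => Subtype.ext ?_⟩⟩)
    obtain ⟨a, rfl⟩ := QuotientGroup.mk'_surjective N a
    obtain ⟨b, rfl⟩ := QuotientGroup.mk'_surjective N b
    exact (h a ha b hb).map (QuotientGroup.mk' N)

/-- No maximal subgroup of a non-solvable group contains every proper subgroup it meets. -/
theorem exists_meet (hG : ¬ Group.IsSolvable G) {M : Subgroup G} (hM : IsCoatom M) :
    ∃ H : Subgroup G, H ≠ ⊤ ∧ H ⊓ M ≠ ⊥ ∧ ¬ H ≤ M := by
  by_contra hcon
  push Not at hcon
  have hbot : M ≠ ⊥ := by
    rintro rfl
    refine hG ?_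
    obtain ⟨g, hg⟩ : ∃ g : G, g ≠ 1 := by
      by_contra hg
      push Not at hg
      haveI : Subsingleton G := ⟨fun a b => by rw [hg a, hg b]⟩
      exact hG inferInstance
    have htop : zpowers g = ⊤ := hM.2 _ (bot_lt_iff_ne_bot.2 (zpowers_ne_bot.2 hg))
    exact Group.isSolvable_of_comm fun a b => by
      obtain ⟨i, rfl⟩ := mem_zpowers_iff.1 (htop.ge (mem_top a))
      obtain ⟨j, rfl⟩ := mem_zpowers_iff.1 (htop.ge (mem_top b))
      exact (Commute.zpow_zpow_self g i j).eq
  have key : ∀ H : Subgroup G, H ⊓ M ≠ ⊥ → ¬ H ≤ M → H = ⊤ := fun H h1 h2 => by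
    by_contra h3
    exact h2 (hcon H h3 h1)
  by_cases hMn : M.Normal
  · refine hG ?_
    haveI := hMn
    have hns : ¬ Group.IsSolvable M := by
      intro hs
      haveI := hs
      haveI : IsSimpleGroup (G ⧸ M) := by
        haveI : Nontrivial (G ⧸ M) := QuotientGroup.nontrivial_iff.2 hM.1
        refine ⟨fun K _ => ?_⟩
        rcases (coatom_cases hM (QuotientGroup.le_comap_mk' M K)).symm with h | h
        · right
          rw [← map_comap_eq_self_of_surjective (QuotientGroup.mk'_surjective M) K, h,
            map_top_of_surjective _ (QuotientGroup.mk'_surjective M)]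
        · left
          rw [← map_comap_eq_self_of_surjective (QuotientGroup.mk'_surjective M) K, h,
            QuotientGroup.map_mk'_self]
      obtain ⟨g, hg⟩ : ∃ g : G, g ∉ M := by
        by_contra h; push Not at h; exact hM.1 (eq_top_iff.2 fun g _ => h g)
      have htop : M ⊔ zpowers g = ⊤ := hM.2 _ (lt_of_le_of_ne le_sup_left fun e =>
        hg (e ▸ le_sup_right (a := M) (mem_zpowers g)))
      haveI : Group.IsSolvable (G ⧸ M) := Group.isSolvable_of_comm fun a b => by
        obtain ⟨a, rfl⟩ := QuotientGroup.mk'_surjective M a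
        obtain ⟨b, rfl⟩ := QuotientGroup.mk'_surjective M b
        have hmem : ∀ c : G, ∃ i : ℤ, QuotientGroup.mk' M c = QuotientGroup.mk' M g ^ i := fun c => by
          obtain ⟨m, hm, y, hy, rfl⟩ := mem_sup_of_normal_left.1 (htop.ge (mem_top c))
          obtain ⟨i, rfl⟩ := mem_zpowers_iff.1 hy
          exact ⟨i, by simp [(QuotientGroup.eq_one_iff m).2 hm]⟩
        obtain ⟨i, hi⟩ := hmem a
        obtain ⟨j, hj⟩ := hmem b
        rw [hi, hj]
        exact (Commute.zpow_zpow_self _ i j).eq
      exact hG (Group.isSolvable_of_ker_le_range M.subtype (QuotientGroup.mk' M)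
        (by rw [QuotientGroup.ker_mk', range_subtype]))
    obtain ⟨p, hp, P, hPn, -⟩ := exists_sylow_normalizer hns
    exfalso
    have hsup := Sylow.normalizer_sup_eq_top P
    set P' := (P : Subgroup M).map M.subtype with hP'
    have hne : normalizer (P' : Set G) ⊓ M ≠ ⊥ := fun e => hPn (by
      have hP1 : (P : Subgroup M) = ⊥ := by
        rw [eq_bot_iff]
        intro x hx
        have hx' : (x : G) ∈ normalizer (P' : Set G) ⊓ M := ⟨le_normalizer ⟨x, hx, rfl⟩, x.2⟩
        rw [e] at hx'
        exact mem_bot.2 (Subtype.ext (mem_bot.1 hx'))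
      rw [hP1]; infer_instance)
    have htop := key _ hne fun hle => hM.1 (by rwa [sup_eq_right.2 hle] at hsup)
    haveI : P'.Normal := normalizer_eq_top_iff.1 htop
    exact hPn (by
      rw [← comap_map_eq_self_of_injective M.subtype_injective (P : Subgroup M)]
      exact Normal.comap ‹P'.Normal› M.subtype)
  · have hnorm : normalizer (M : Set G) = M := by
      rcases coatom_cases hM (le_normalizer (H := M)) with h | h
      · exact h
      · exact absurd (normalizer_eq_top_iff.1 h) hMn
    have hF : Cfsg.IsFrobeniusComplement M := ⟨hbot, hM.1, fun g hg => by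
      by_contra hne
      have hne' : (MulAut.conj g • M) ⊓ M ≠ ⊥ := by rwa [inf_comm] at hne
      by_cases hle : MulAut.conj g • M ≤ M
      · refine hg ((SetLike.ext_iff.1 hnorm g).1 (mem_normalizer_of_conj_mem fun x hx => hle ((Subgroup.mem_smul_pointwise_iff_exists _ _ _).2 ⟨x, hx, rfl⟩)))
      · have := key _ hne' hle
        refine hM.1 ?_
        rw [← inv_smul_smul (MulAut.conj g) M, this]
        exact map_top_of_surjective _ (MulEquiv.surjective _)⟩
    by_cases h2 : 2 ∣ Nat.card M
    · haveI : Fact (Nat.Prime 2) := ⟨Nat.prime_two⟩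
      obtain ⟨t, ht⟩ := exists_prime_orderOf_dvd_card' 2 h2
      obtain ⟨g, hg⟩ : ∃ g : G, g ∉ M := by
        by_contra h; push Not at h; exact hM.1 (eq_top_iff.2 fun g _ => h g)
      obtain ⟨u, hu⟩ : ∃ u : G, u = g * (t : G) * g⁻¹ := ⟨_, rfl⟩
      have ht1 : (t : G) ≠ 1 := fun e => by
        rw [← Subgroup.orderOf_coe, e, orderOf_one] at ht; omega
      have hu' : u ∉ M := fun h => by
        have hmem : u ∈ M ⊓ MulAut.conj g • M := ⟨h, Subgroup.mem_smul_pointwise_iff_exists _ _ _ |>.2
          ⟨t, t.2, by rw [hu]; rfl⟩⟩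
        rw [hF.2.2 g hg, mem_bot, hu, conj_eq_one_iff] at hmem
        exact ht1 hmem
      have htt : (t : G) * t = 1 := by
        rw [← pow_two, ← Subgroup.coe_pow, ← ht, pow_orderOf_eq_one, Subgroup.coe_one]
      have huu : u * u = 1 := by
        rw [hu, show g * (t : G) * g⁻¹ * (g * t * g⁻¹) = g * ((t : G) * t) * g⁻¹ by group, htt]
        group
      have htop : closure ({(t : G), u} : Set G) = ⊤ := key _
        (fun e => ht1 (by
          have hmem : (t : G) ∈ closure ({(t : G), u} : Set G) ⊓ M :=
            ⟨subset_closure (Or.inl rfl), t.2⟩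
          rwa [e, mem_bot] at hmem))
        fun hle => hu' (hle (subset_closure (Or.inr rfl)))
      -- a group generated by two involutions is metabelian
      refine hG ?_
      set C := zpowers ((t : G) * u) with hC
      haveI hCn : C.Normal := by
        rw [← normalizer_eq_top_iff, eq_top_iff, ← htop, closure_le]
        have hinv : ((t : G) * u)⁻¹ = u * t := by
          rw [mul_inv_rev, inv_eq_of_mul_eq_one_left huu, inv_eq_of_mul_eq_one_left htt]
        intro c hc
        rcases hc with hc | hc <;> rw [hc] <;> [skip; skip]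
        · refine mem_normalizer_zpowers_of_inv ?_
          rw [show (t : G) * ((t : G) * u) * (t : G)⁻¹ = ((t : G) * u)⁻¹ by
            rw [hinv, inv_eq_of_mul_eq_one_left htt, ← mul_assoc, htt, one_mul]]
          exact inv_mem (mem_zpowers _)
        · refine mem_normalizer_zpowers_of_inv ?_
          rw [show u * ((t : G) * u) * u⁻¹ = ((t : G) * u)⁻¹ by
            rw [hinv, inv_eq_of_mul_eq_one_left huu, mul_assoc, mul_assoc, huu, mul_one]]
          exact inv_mem (mem_zpowers _)
      haveI : Group.IsSolvable C := Group.isSolvable_of_comm fun a b => Subtype.ext (setLike_mul_comm a.2 b.2)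
      haveI : Group.IsSolvable (G ⧸ C) := by
        have hmem : ∀ c : G, QuotientGroup.mk' C c = 1 ∨ QuotientGroup.mk' C c = QuotientGroup.mk' C t := by
          intro c
          have hut : QuotientGroup.mk' C u = QuotientGroup.mk' C t := by
            have h1 : QuotientGroup.mk' C ((t : G) * u) = 1 :=
              (QuotientGroup.eq_one_iff _).2 (mem_zpowers _)
            rw [map_mul] at h1
            have h2 : QuotientGroup.mk' C (t : G) * QuotientGroup.mk' C (t : G) = 1 := by
              rw [← map_mul, htt, map_one]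
            exact mul_left_cancel (h1.trans h2.symm)
          have h2 : QuotientGroup.mk' C (t : G) * QuotientGroup.mk' C (t : G) = 1 := by
            rw [← map_mul, htt, map_one]
          have hc : c ∈ closure ({(t : G), u} : Set G) := htop.ge (mem_top c)
          induction hc using closure_induction with
          | mem x hx =>
            rcases hx with rfl | rfl
            · exact Or.inr rfl
            · exact Or.inr hut
          | one => exact Or.inl (map_one _)
          | mul x y _ _ hx hy =>
            rw [map_mul]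
            rcases hx with hx | hx <;> rcases hy with hy | hy <;> rw [hx, hy]
            exacts [Or.inl (one_mul _), Or.inr (one_mul _), Or.inr (mul_one _), Or.inl h2]
          | inv x _ hx =>
            rw [map_inv]
            rcases hx with hx | hx <;> rw [hx]
            · simp
            · exact Or.inr (inv_eq_of_mul_eq_one_left h2)
        exact Group.isSolvable_of_comm fun a b => by
          obtain ⟨a, rfl⟩ := QuotientGroup.mk'_surjective C a
          obtain ⟨b, rfl⟩ := QuotientGroup.mk'_surjective C b
          rcases hmem a with ha | ha <;> rcases hmem b with hb | hb <;> rw [ha, hb] <;> simp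
      exact Group.isSolvable_of_ker_le_range C.subtype (QuotientGroup.mk' C)
        (by rw [QuotientGroup.ker_mk', range_subtype])
    · obtain ⟨N, hNset, hNn, hNnil⟩ := CfsgLib.Solvable.FPFNilpotent.frobenius_kernel_nilpotent hF
      obtain ⟨N', -, -, -, -, hc, hN'⟩ := CfsgLib.FrobRealize.FPF.exists_fpf_kernel hF
      obtain rfl : N' = N := SetLike.coe_injective (hN'.trans hNset.symm)
      haveI := hNn
      haveI := hNnil
      refine hG ?_
      have htop : M ⊔ N' = ⊤ := by rw [sup_comm]; exact hc.sup_eq_top
      haveI : Group.IsSolvable M := Cfsg.Agent.S0205.result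
        (Nat.not_even_iff_odd.1 fun h => h2 h.two_dvd)
      haveI : Group.IsSolvable (G ⧸ N') := Group.isSolvable_of_surjective
        (f := (QuotientGroup.mk' N').comp M.subtype) fun q => by
          obtain ⟨c, rfl⟩ := QuotientGroup.mk'_surjective N' q
          obtain ⟨m, hm, y, hy, rfl⟩ := mem_sup_of_normal_right.1 (htop.ge (mem_top c))
          exact ⟨⟨m, hm⟩, by simp [(QuotientGroup.eq_one_iff y).2 hy]⟩
      exact Group.isSolvable_of_ker_le_range N'.subtype (QuotientGroup.mk' N')
        (by rw [QuotientGroup.ker_mk', range_subtype])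

/-- In a simple group an element of prime order has no abelian self-normalising centraliser. -/
theorem not_abelian_selfnormalizing [IsSimpleGroup G] (hG : ¬ IsMulCommutative G) {z : G} {r : ℕ}
    (hr : r.Prime) (hz : orderOf z = r)
    (hab : ∀ a ∈ centralizer ({z} : Set G), ∀ b ∈ centralizer ({z} : Set G), Commute a b)
    (hn : normalizer (centralizer ({z} : Set G) : Set G) ≤ centralizer ({z} : Set G)) : False := by
  haveI := Fact.mk hr
  set A := centralizer ({z} : Set G) with hA
  have hpz : IsPGroup r (zpowers z) :=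
    IsPGroup.of_card (n := 1) (by rw [Nat.card_zpowers, hz, pow_one])
  obtain ⟨R, hR⟩ := hpz.exists_le_sylow
  have hzR : z ∈ (R : Subgroup G) := hR (mem_zpowers z)
  have hzA : z ∈ A := mem_centralizer_singleton_iff.2 rfl
  have hnorm : ∀ X : Subgroup G, z ∈ X → X ≤ A → normalizer (X : Set G) ≤ A := by
    intro X hzX hXA g hg
    refine hn ?_
    have hC : centralizer (X : Set G) = A :=
      le_antisymm (centralizer_le (Set.singleton_subset_iff.2 hzX))
        fun a ha => mem_centralizer_iff.2 fun x hx => (hab x (hXA hx) a ha).eq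
    rw [← hC]
    refine mem_normalizer_of_conj_mem fun c hc => mem_centralizer_iff.2 fun x hx => ?_
    have hx' : g⁻¹ * x * g ∈ X := by simpa using (mem_normalizer_iff.1 (inv_mem hg) x).1 hx
    calc x * (g * c * g⁻¹) = g * (g⁻¹ * x * g * c) * g⁻¹ := by group
      _ = g * (c * (g⁻¹ * x * g)) * g⁻¹ := by rw [mem_centralizer_iff.1 hc _ hx']
      _ = g * c * g⁻¹ * x := by group
  have hRA : (R : Subgroup G) ≤ A := by
    by_contra hle
    haveI := R.2.isNilpotent
    set X := (R : Subgroup G) ⊓ A with hX
    have hlt : X.subgroupOf (R : Subgroup G) < ⊤ := lt_top_iff_ne_top.2 fun e =>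
      hle ((subgroupOf_eq_top.1 e).trans inf_le_right)
    obtain ⟨⟨g, hgR⟩, hgn, hgX⟩ := SetLike.exists_of_lt (Group.normalizerCondition_of_isNilpotent _ hlt)
    refine hgX (mem_subgroupOf.2 ⟨hgR, hnorm X ⟨hzR, hzA⟩ inf_le_right ?_⟩)
    rw [mem_normalizer_iff]
    intro x
    have key := mem_normalizer_iff.1 hgn
    constructor
    · intro hx
      exact mem_subgroupOf.1 ((key ⟨x, hx.1⟩).1 (mem_subgroupOf.2 hx))
    · intro hx
      have hxR : x ∈ (R : Subgroup G) := by
        have := mul_mem (mul_mem (inv_mem hgR) hx.1) hgR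
        simpa [mul_assoc] using this
      exact mem_subgroupOf.1 ((key ⟨x, hxR⟩).2 (mem_subgroupOf.2 hx))
  have hle : normalizer ((R : Subgroup G) : Set G) ≤ centralizer ((R : Subgroup G) : Set G) :=
    fun g hg => mem_centralizer_iff.2 fun x hx => (hab x (hRA hx) g (hnorm _ hzR hRA hg)).eq
  rcases (inferInstance : (MonoidHom.transferSylow R hle).ker.Normal).eq_bot_or_eq_top with h | h
  · have hc := MonoidHom.ker_transferSylow_isComplement' R hle
    rw [h, isComplement'_bot_left] at hc
    exact hG ⟨⟨fun a b => hab a (hRA (hc.ge (mem_top a))) b (hRA (hc.ge (mem_top b)))⟩⟩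
  · have hc := MonoidHom.ker_transferSylow_isComplement' R hle
    rw [h, isComplement'_top_left] at hc
    rw [hc, mem_bot] at hzR
    rw [hzR, orderOf_one] at hz
    exact hr.one_lt.ne hz

end CfsgLib.MinNonCA
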