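import Cfsg.Agent.Lib.MinNonCA.Core
import Cfsg.Agent.S0116
import Cfsg.Agent.S0215
import Cfsg.Agent.S3188

/-!
# Quasisimple groups with all proper subgroups CA: the Sylow 2-subgroup

A central element of a non-abelian Sylow 2-subgroup is central (fusion and Z*); with abelian Sylow
2-subgroups the centre has odd order and the involution centralisers are solvable, so the central
quotient is `PSL(2,q)`.
-/

set_option autoImplicit false
set_option linter.style.haveILetI false
set_option linter.unusedSectionVars false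

universe u

namespace CfsgLib.MinNonCA

open Subgroup
open scoped Pointwise commutatorElement

variable {G : Type u} [Group G]

/-- Perfect with simple central quotient and all proper subgroups CA. -/
structure Quasi (G : Type u) [Group G] : Prop where
  perfect : commutator G = ⊤
  simple : IsSimpleGroup (G ⧸ center G)
  proper : ∀ H : Subgroup G, H ≠ ⊤ → CA H
  nonsolv : ¬ Group.IsSolvable G

theorem Quasi.absorb (Q : Quasi G) {H : Subgroup G} (hH : H ≠ ⊤) {z a b : G} (hz : z ∈ H)
    (ha : a ∈ H) (hb : b ∈ H) (hza : Commute z a) (hzb : Commute z b) (hab : ¬ Commute a b) :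
    H ≤ centralizer ({z} : Set G) := fun y hy => mem_centralizer_of_commute (by
  by_contra hzy
  exact hab (Q.proper H hH z hz y hy hzy a ha b hb hza hzb))

/-- An element all of whose commutators are central is central in a perfect group. -/
theorem Quasi.mem_center (Q : Quasi G) {x : G} (h : ∀ g : G, ⁅x, g⁆ ∈ center G) : x ∈ center G := by
  set f : G →* center G := MonoidHom.mk' (fun g => ⟨⁅x, g⁆, h g⟩) fun g g' => Subtype.ext (by
    have e : ⁅x, g * g'⁆ = ⁅x, g⁆ * (g * ⁅x, g'⁆ * g⁻¹) := by
      simp only [commutatorElement_def]; group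
    show ⁅x, g * g'⁆ = ⁅x, g⁆ * ⁅x, g'⁆
    rw [e, mem_center_iff.1 (h g') g, mul_inv_cancel_right])
  have hker : f.ker = ⊤ := top_le_iff.1 (Q.perfect.ge.trans (by
    rw [commutator_def, commutator_le]
    intro a _ b _
    rw [MonoidHom.mem_ker, map_commutatorElement, commutatorElement_eq_one_iff_mul_comm]
    exact Subtype.ext (mem_center_iff.1 (f b).2 (f a))))
  refine mem_center_iff.2 fun g => (commutatorElement_eq_one_iff_mul_comm.1 ?_).symm
  exact congrArg Subtype.val ((MonoidHom.mem_ker).1 (hker.ge (mem_top g)))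

theorem Quasi.normal_cases (Q : Quasi G) (N : Subgroup G) [N.Normal] : N ≤ center G ∨ N = ⊤ := by
  haveI := Q.simple
  rcases (Normal.map ‹N.Normal› (QuotientGroup.mk' (center G))
    (QuotientGroup.mk'_surjective _)).eq_bot_or_eq_top with h | h
  · left
    rwa [Subgroup.map_eq_bot_iff, QuotientGroup.ker_mk'] at h
  · right
    refine top_le_iff.1 (Q.perfect.ge.trans ?_)
    rw [commutator_def, commutator_le]
    intro a _ b _
    obtain ⟨n, hn, hna⟩ := h.ge (mem_top (QuotientGroup.mk' (center G) a))
    obtain ⟨c, hc, rfl⟩ : ∃ c ∈ center G, a = n * c := ⟨n⁻¹ * a,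
      (QuotientGroup.eq).1 hna, by group⟩
    rw [show ⁅n * c, b⁆ = n * b * n⁻¹ * b⁻¹ by
      have hcb := mem_center_iff.1 hc b
      calc ⁅n * c, b⁆ = n * (c * b * c⁻¹) * n⁻¹ * b⁻¹ := by rw [commutatorElement_def]; group
        _ = _ := by rw [← hcb, mul_inv_cancel_right]]
    rw [show n * b * n⁻¹ * b⁻¹ = n * (b * n⁻¹ * b⁻¹) by group]
    exact mul_mem hn (‹N.Normal›.conj_mem _ (inv_mem hn) b)

theorem Quasi.noncomm_quotient (Q : Quasi G) : ¬ IsMulCommutative (G ⧸ center G) := fun h =>
  Q.nonsolv (by
    haveI : Group.IsSolvable (G ⧸ center G) := Group.isSolvable_of_comm fun a b => h.is_comm.comm a b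
    haveI : Group.IsSolvable (center G) := Group.isSolvable_of_comm fun a b =>
      Subtype.ext (mem_center_iff.1 b.2 a)
    exact Group.isSolvable_of_ker_le_range (center G).subtype (QuotientGroup.mk' (center G))
      (by rw [QuotientGroup.ker_mk', range_subtype]))

theorem Quasi.comap_ne_top (Q : Quasi G) {H : Subgroup (G ⧸ center G)} (hH : H ≠ ⊤) :
    H.comap (QuotientGroup.mk' (center G)) ≠ ⊤ := fun e => hH (by
  rw [← map_comap_eq_self_of_surjective (QuotientGroup.mk'_surjective _) H, e,
    map_top_of_surjective _ (QuotientGroup.mk'_surjective _)])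

theorem Quasi.centralizer_ne_top (Q : Quasi G) {x : G ⧸ center G} (hx : x ≠ 1) :
    centralizer ({x} : Set (G ⧸ center G)) ≠ ⊤ := fun e => by
  haveI := Q.simple
  rcases (inferInstance : (center (G ⧸ center G)).Normal).eq_bot_or_eq_top with h | h
  · refine hx (mem_bot.1 (h ▸ mem_center_iff.2 fun g => ?_))
    exact mem_centralizer_singleton_iff.1 (e.ge (mem_top g))
  · exact Q.noncomm_quotient ⟨⟨fun a b => mem_center_iff.1 (h.ge (mem_top b)) a⟩⟩

variable [Finite G]

theorem Quasi.normal_two_le (Q : Quasi G) (N : Subgroup G) [N.Normal] (hN : IsPGroup 2 N) :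
    N ≤ center G := by
  haveI : Fact (Nat.Prime 2) := ⟨Nat.prime_two⟩
  refine (Q.normal_cases N).resolve_right fun h => Q.nonsolv ?_
  haveI := hN.isNilpotent
  exact Group.isSolvable_of_surjective (f := N.subtype) fun g => ⟨⟨g, h ▸ mem_top g⟩, rfl⟩

/-- A 2-element over the image of a Sylow 2-subgroup lies in it. -/
theorem Quasi.mem_sylow (Q : Quasi G) (P : Sylow 2 G) {y : G} (h2 : IsPGroup 2 (zpowers y))
    (hy : QuotientGroup.mk' (center G) y ∈ (P : Subgroup G).map (QuotientGroup.mk' (center G))) :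
    y ∈ (P : Subgroup G) := by
  obtain ⟨p, hp, hpy⟩ := hy
  have hc : p⁻¹ * y ∈ center G := (QuotientGroup.eq).1 hpy
  have hn : zpowers y ≤ normalizer ((P : Subgroup G) : Set G) := zpowers_le.2
    (mem_normalizer_of_conj_mem fun w hw => by
      rw [show y * w * y⁻¹ = p * (p⁻¹ * y * w * (p⁻¹ * y)⁻¹) * p⁻¹ by group,
        ← mem_center_iff.1 hc w, mul_inv_cancel_right]
      exact mul_mem (mul_mem hp hw) (inv_mem hp))
  have hsup := P.3 (h2.to_sup_of_normal_right' P.2 hn) le_sup_right
  exact hsup ▸ le_sup_left (b := (P : Subgroup G)) (mem_zpowers y)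

/-- A central element of a non-abelian Sylow 2-subgroup is fixed by fusion. -/
theorem Quasi.eq_of_conj_mem (Q : Quasi G) (P : Sylow 2 G)
    (hP : ∃ a ∈ (P : Subgroup G), ∃ b ∈ (P : Subgroup G), ¬ Commute a b) {x g : G}
    (hx : x ∈ (P : Subgroup G)) (hxc : ∀ a ∈ (P : Subgroup G), Commute x a) (hxZ : x ∉ center G)
    (hg : g⁻¹ * x * g ∈ (P : Subgroup G)) : g⁻¹ * x * g = x := by
  haveI : Fact (Nat.Prime 2) := ⟨Nat.prime_two⟩
  obtain ⟨n, R, c, hprod, hN, h0, hstep⟩ := Cfsg.Agent.S0116.result P {x} g
    (Set.singleton_subset_iff.2 hx) (by rintro _ ⟨a, rfl, rfl⟩; exact hg)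
  -- each factor fixes `x`
  have key : ∀ i : Fin n, x ∈ ((P : Subgroup G) ⊓ (R i : Subgroup G)) → Commute x (c i) := by
    intro i hxD
    set D := (P : Subgroup G) ⊓ (R i : Subgroup G) with hD
    obtain ⟨hcN, htame, -⟩ := hN i
    set N := normalizer (D : Set G) with hNdef
    set S := ((P : Subgroup G) ⊓ N).subgroupOf N with hS
    have hSp : IsPGroup 2 S := (P.2.to_le inf_le_left).of_equiv
      (subgroupOfEquivOfLe (inf_le_right : (P : Subgroup G) ⊓ N ≤ N)).symm
    set SS : Sylow 2 N := hSp.toSylow htame with hSS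
    set C := (centralizer (D : Set G)).subgroupOf N with hC
    haveI hCn : C.Normal := ⟨fun a ha m => by
      rw [hC, mem_subgroupOf, mem_centralizer_iff] at ha ⊢
      intro d hd
      have hd' : (m : G)⁻¹ * d * m ∈ D := by
        simpa using (mem_normalizer_iff.1 (inv_mem m.2) d).1 hd
      calc d * ↑(m * a * m⁻¹) = (m : G) * (((m : G)⁻¹ * d * m) * a) * (m : G)⁻¹ := by simp [mul_assoc]
        _ = (m : G) * ((a : G) * ((m : G)⁻¹ * d * m)) * (m : G)⁻¹ := by rw [ha _ hd']
        _ = ↑(m * a * m⁻¹) * d := by simp [mul_assoc]⟩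
    obtain ⟨RC⟩ := (inferInstance : Nonempty (Sylow 2 C))
    obtain ⟨S', hS'⟩ := (RC.2.map C.subtype).exists_le_sylow
    obtain ⟨m0, hm0⟩ := MulAction.exists_smul_eq N S' SS
    -- the part of `P` in the centraliser of `D` is a Sylow subgroup of it
    obtain ⟨RC', hRC'⟩ : ∃ RC' : Sylow 2 C,
        ((RC' : Subgroup C).map C.subtype) = (SS : Subgroup N) ⊓ C := by
      set X := (((SS : Subgroup N) ⊓ C)).subgroupOf C with hX
      have hXp : IsPGroup 2 X := (SS.2.to_le inf_le_left).of_equiv
        (subgroupOfEquivOfLe (inf_le_right : (SS : Subgroup N) ⊓ C ≤ C)).symm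
      have hidx : ¬ 2 ∣ X.index := by
        intro hd
        have hcard : Nat.card RC ≤ Nat.card X := by
          rw [Nat.card_congr (subgroupOfEquivOfLe (inf_le_right : (SS : Subgroup N) ⊓ C ≤ C)).toEquiv]
          rw [← card_map_of_injective C.subtype_injective (K := (RC : Subgroup C))]
          rw [Nat.card_congr (Subgroup.equivSMul (MulAut.conj m0) ((RC : Subgroup C).map C.subtype)).toEquiv]
          refine card_le_of_le (le_inf ?_ ?_)
          · rw [← hm0, Sylow.coe_subgroup_smul]
            exact pointwise_smul_le_pointwise_smul_iff.2 hS'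
          · rintro _ ⟨a, ⟨a', -, rfl⟩, rfl⟩
            exact hCn.conj_mem _ a'.2 m0
        obtain ⟨RX, hRX⟩ := hXp.exists_le_sylow
        have heq : X = (RX : Subgroup C) := eq_of_le_of_card_ge hRX
          (le_trans (RX.card_eq_multiplicity.trans RC.card_eq_multiplicity.symm).le hcard)
        exact RX.not_dvd_index (heq ▸ hd)
      refine ⟨hXp.toSylow hidx, ?_⟩
      show X.map C.subtype = _
      rw [hX, subgroupOf_map_subtype, inf_of_le_left inf_le_right]
    have hfr := Sylow.normalizer_sup_eq_top RC'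
    rw [hRC'] at hfr
    obtain ⟨m, hm, e, he, hme⟩ := mem_sup_of_normal_right.1 (hfr.ge (mem_top (⟨c i, hcN⟩ : N)))
    have hec : Commute x (e : G) := mem_centralizer_iff.1 (mem_subgroupOf.1 he) x hxD
    -- `m` normalises a subgroup of `P` containing its centraliser
    set D' := D ⊔ ((P : Subgroup G) ⊓ centralizer (D : Set G)) with hD'
    have hD'P : D' ≤ (P : Subgroup G) := sup_le inf_le_left inf_le_left
    have hmD' : (m : G) ∈ normalizer (D' : Set G) := mem_normalizer_of_conj_mem fun w hw => by
      have hle : D' ≤ D'.comap (MulAut.conj (m : G)).toMonoidHom := sup_le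
        (fun d hd => mem_comap.2 (le_sup_left (b := (P : Subgroup G) ⊓ centralizer (D : Set G))
          ((mem_normalizer_iff.1 m.2 d).1 hd)))
        (fun d hd => by
          have hdN : d ∈ N := mem_normalizer_of_conj_mem fun w hw => by
            rw [← mem_centralizer_iff.1 hd.2 w hw, mul_inv_cancel_right]; exact hw
          have hmem : (⟨d, hdN⟩ : N) ∈ (SS : Subgroup N) ⊓ C :=
            ⟨mem_subgroupOf.2 ⟨hd.1, hdN⟩, mem_subgroupOf.2 hd.2⟩
          have h' := (mem_normalizer_iff.1 hm ⟨d, hdN⟩).1 hmem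
          exact mem_comap.2 (le_sup_right (a := D)
            ⟨(mem_subgroupOf.1 h'.1).1, mem_subgroupOf.1 h'.2⟩))
      exact mem_comap.1 (hle hw)
    have hxm : Commute x (m : G) := by
      by_cases htop : normalizer (D' : Set G) = ⊤
      · haveI : D'.Normal := normalizer_eq_top_iff.1 htop
        exact absurd (Q.normal_two_le D' (P.2.to_le hD'P) (le_sup_left (b :=
          (P : Subgroup G) ⊓ centralizer (D : Set G)) hxD)) hxZ
      · obtain ⟨a, ⟨haP, haN⟩, b, ⟨hbP, hbN⟩, hab⟩ : ∃ a ∈ (P : Subgroup G) ⊓ normalizer (D' : Set G),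
            ∃ b ∈ (P : Subgroup G) ⊓ normalizer (D' : Set G), ¬ Commute a b := by
          by_contra hall
          push Not at hall
          have hsub : (P : Subgroup G) ⊓ normalizer (D' : Set G) ≤ D' := fun a ha =>
            le_sup_right (a := D) ⟨ha.1, mem_centralizer_iff.2 fun d hd => (hall d
              ⟨inf_le_left (b := (R i : Subgroup G)) hd,
                le_normalizer (le_sup_left (b := (P : Subgroup G) ⊓ centralizer (D : Set G)) hd)⟩
              a ha).eq⟩
          obtain ⟨a, ha, b, hb, hab⟩ := hP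
          by_cases hDP : D' = (P : Subgroup G)
          · exact hab (hall a ⟨ha, le_normalizer (hDP ▸ ha)⟩ b ⟨hb, le_normalizer (hDP ▸ hb)⟩)
          haveI := P.2.isNilpotent
          have hlt : D'.subgroupOf (P : Subgroup G) < ⊤ := lt_top_iff_ne_top.2 fun e' =>
            hDP (le_antisymm hD'P (subgroupOf_eq_top.1 e'))
          obtain ⟨⟨w, hwP⟩, hwn, hwD⟩ :=
            SetLike.exists_of_lt (Group.normalizerCondition_of_isNilpotent _ hlt)
          refine hwD (mem_subgroupOf.2 (hsub ⟨hwP, mem_normalizer_of_conj_mem fun v hv => ?_⟩))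
          exact mem_subgroupOf.1 ((mem_normalizer_iff.1 hwn ⟨v, hD'P hv⟩).1 (mem_subgroupOf.2 hv))
        exact commute_of_mem_centralizer (Q.absorb htop
          (le_normalizer (le_sup_left (b := (P : Subgroup G) ⊓ centralizer (D : Set G)) hxD)) haN hbN
          (hxc a haP) (hxc b hbP) hab hmD')
    have : (c i) = (m : G) * (e : G) := congrArg Subtype.val hme.symm
    rw [this]
    exact hxm.mul_right hec
  have hall : ∀ j ≤ n, Commute x (((List.ofFn c).take j).prod) := by
    intro j hj
    induction j with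
    | zero => simp
    | succ j ih =>
      have hjn : j < n := by omega
      rw [List.prod_take_succ _ _ (by simpa using hjn), List.getElem_ofFn]
      refine (ih hjn.le).mul_right (key ⟨j, hjn⟩ ?_)
      rcases Nat.eq_zero_or_pos j with rfl | hj0
      · exact h0 hjn rfl
      · obtain ⟨j', rfl⟩ := Nat.exists_eq_add_one.2 hj0
        have := hstep ⟨j', by omega⟩ hjn ⟨x, rfl, rfl⟩
        have he := ih hjn.le
        simp only at this
        rwa [show (((List.ofFn c).take (j' + 1)).prod)⁻¹ * x * ((List.ofFn c).take (j' + 1)).prod = x by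
          rw [mul_assoc, he.eq, inv_mul_cancel_left]] at this
  have hcg := hall n le_rfl
  rw [List.take_of_length_le (by simp), hprod] at hcg
  rw [mul_assoc, hcg.eq, inv_mul_cancel_left]

theorem Quasi.orderOf_quotient {x : G} (hx2 : x * x ∈ center G) (hx : x ∉ center G) :
    orderOf (QuotientGroup.mk' (center G) x) = 2 := by
  haveI : Fact (Nat.Prime 2) := ⟨Nat.prime_two⟩
  refine orderOf_eq_prime ?_ fun h => hx ((QuotientGroup.eq_one_iff x).1 h)
  rw [pow_two, ← map_mul]
  exact (QuotientGroup.eq_one_iff _).2 hx2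

/-- No element outside the centre of the quotient is central modulo an odd normal subgroup. -/
theorem Quasi.not_isolated (Q : Quasi G) (P : Sylow 2 G) {x : G} (hxP : x ∈ (P : Subgroup G))
    (hx2 : x * x ∈ center G) (hx : x ∉ center G)
    (hiso : ∀ g : G, g⁻¹ * x * g ∈ (P : Subgroup G) → g⁻¹ * x * g = x) : False := by
  haveI : Fact (Nat.Prime 2) := ⟨Nat.prime_two⟩
  haveI := Q.simple
  set π := QuotientGroup.mk' (center G) with hπ
  have hsurj := QuotientGroup.mk'_surjective (center G)
  set P' := P.mapSurjective hsurj with hP'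
  obtain ⟨N, hNn, hNodd, hN⟩ := Cfsg.Agent.S0215.result P' (π x) (Quasi.orderOf_quotient hx2 hx)
    ⟨x, hxP, rfl⟩ fun g hg => by
      obtain ⟨g, rfl⟩ := hsurj g
      have h2 : IsPGroup 2 (zpowers (g * x * g⁻¹)) := by
        have hp : IsPGroup 2 (zpowers x) := P.2.to_le (zpowers_le.2 hxP)
        have := hp.map (MulAut.conj g).toMonoidHom
        rwa [MonoidHom.map_zpowers] at this
      rw [← map_inv, ← map_mul, ← map_mul] at hg ⊢
      have hmem := Q.mem_sylow P h2 hg
      have := hiso g⁻¹ (by rwa [inv_inv])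
      rw [inv_inv] at this
      rw [this]
  haveI := hNn
  rcases hNn.eq_bot_or_eq_top with h | h
  · refine hx (Q.mem_center fun g => (QuotientGroup.eq_one_iff _).1 ?_)
    have := hN (π g)
    rw [h, mem_bot] at this
    show π ⁅x, g⁆ = 1
    rw [map_commutatorElement, commutatorElement_def]
    exact this
  · rw [h, Subgroup.card_top] at hNodd
    have h2 : 2 ∣ Nat.card (G ⧸ center G) :=
      Quasi.orderOf_quotient hx2 hx ▸ orderOf_dvd_natCard (π x)
    exact Nat.not_even_iff_odd.2 hNodd (even_iff_two_dvd.2 h2)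

/-- The centre of a non-abelian Sylow 2-subgroup is central. -/
theorem Quasi.center_sylow (Q : Quasi G) (P : Sylow 2 G)
    (hP : ∃ a ∈ (P : Subgroup G), ∃ b ∈ (P : Subgroup G), ¬ Commute a b) {x : G}
    (hx : x ∈ (P : Subgroup G)) (hxc : ∀ a ∈ (P : Subgroup G), Commute x a) : x ∈ center G := by
  haveI : Fact (Nat.Prime 2) := ⟨Nat.prime_two⟩
  induction hn : orderOf x using Nat.strong_induction_on generalizing x with
  | _ n ih =>
    by_contra hxZ
    obtain ⟨j, hj⟩ := (IsPGroup.iff_orderOf.1 (P.2.to_le le_rfl)) ⟨x, hx⟩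
    rw [← Subgroup.orderOf_coe] at hj
    change orderOf x = 2 ^ j at hj
    rcases j with _ | j
    · rw [pow_zero, orderOf_eq_one_iff] at hj
      exact hxZ (hj ▸ one_mem _)
    have hsq : orderOf (x * x) = 2 ^ j := by
      rw [← pow_two, orderOf_pow' x two_ne_zero, hj, pow_succ, Nat.gcd_mul_left_left,
        Nat.mul_div_cancel _ two_pos]
    have hx2 : x * x ∈ center G := ih (2 ^ j)
      (by rw [← hn, hj]; exact Nat.pow_lt_pow_right one_lt_two (Nat.lt_succ_self j))
      (mul_mem hx hx) (fun a ha => (hxc a ha).mul_left (hxc a ha)) hsq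
    exact Q.not_isolated P hx hx2 hxZ fun g hg => Q.eq_of_conj_mem P hP hx hxc hxZ hg

/-- With abelian Sylow 2-subgroups the centre has no element of even order. -/
theorem Quasi.eq_one_of_abelian (Q : Quasi G) (P : Sylow 2 G)
    (hP : ∀ a ∈ (P : Subgroup G), ∀ b ∈ (P : Subgroup G), Commute a b) {c : G}
    (hcP : c ∈ (P : Subgroup G)) (hc : c ∈ center G) : c = 1 := by
  haveI : Fact (Nat.Prime 2) := ⟨Nat.prime_two⟩
  let _ : CommGroup (P : Subgroup G) :=
    { (inferInstance : Group (P : Subgroup G)) with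
      mul_comm := fun a b => Subtype.ext (hP a a.2 b b.2).eq }
  have hker : (MonoidHom.transfer (MonoidHom.id (P : Subgroup G))).ker = ⊤ :=
    top_le_iff.1 (Q.perfect.ge.trans (Abelianization.commutator_subset_ker _))
  have h := MonoidHom.transfer_eq_pow (MonoidHom.id (P : Subgroup G)) c fun k g₀ _ => by
    have hk : c ^ k ∈ center G := pow_mem hc k
    rw [mul_assoc, ← mem_center_iff.1 hk g₀, inv_mul_cancel_left]
  rw [(MonoidHom.mem_ker).1 (hker.ge (mem_top c))] at h
  have h' : c ^ (P : Subgroup G).index = 1 := (congrArg Subtype.val h).symm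
  obtain ⟨j, hj⟩ := (IsPGroup.iff_orderOf.1 (P.2.to_le le_rfl)) ⟨c, hcP⟩
  rw [← Subgroup.orderOf_coe] at hj
  change orderOf c = 2 ^ j at hj
  rw [← orderOf_eq_one_iff]
  exact Nat.eq_one_of_dvd_coprimes
    ((Nat.Prime.coprime_iff_not_dvd Nat.prime_two).2 P.not_dvd_index |>.pow_left j)
    (hj ▸ dvd_rfl) (orderOf_dvd_of_pow_eq_one h')

/-- A 2-element over each involution of the central quotient, up to conjugation. -/
theorem Quasi.exists_lift (Q : Quasi G) (P : Sylow 2 G) {t : G ⧸ center G} (ht : orderOf t = 2) :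
    ∃ g y : G, y ∈ (P : Subgroup G) ∧
      QuotientGroup.mk' (center G) (g * y * g⁻¹) = t := by
  haveI : Fact (Nat.Prime 2) := ⟨Nat.prime_two⟩
  have hsurj := QuotientGroup.mk'_surjective (center G)
  have hp : IsPGroup 2 (zpowers t) :=
    IsPGroup.of_card (n := 1) (by rw [Nat.card_zpowers, ht, pow_one])
  obtain ⟨T', hT'⟩ := hp.exists_le_sylow
  obtain ⟨m, hm⟩ := MulAction.exists_smul_eq (G ⧸ center G) (P.mapSurjective hsurj) T'
  obtain ⟨g, rfl⟩ := hsurj m
  have hmem : t ∈ (T' : Subgroup (G ⧸ center G)) := hT' (mem_zpowers t)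
  rw [← hm, Sylow.coe_subgroup_smul, Subgroup.mem_smul_pointwise_iff_exists] at hmem
  obtain ⟨s, ⟨y, hy, rfl⟩, hst⟩ := hmem
  exact ⟨g, y, hy, by rw [← hst, map_mul, map_mul, map_inv]; rfl⟩

/-- With abelian Sylow 2-subgroups the involution centralisers of the quotient are solvable. -/
theorem Quasi.solvable_of_abelian (Q : Quasi G) (P : Sylow 2 G)
    (hP : ∀ a ∈ (P : Subgroup G), ∀ b ∈ (P : Subgroup G), Commute a b) (t : G ⧸ center G)
    (ht : orderOf t = 2) : Group.IsSolvable (centralizer ({t} : Set (G ⧸ center G))) := by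
  haveI : Fact (Nat.Prime 2) := ⟨Nat.prime_two⟩
  obtain ⟨g, y0, hy0, hgy⟩ := Q.exists_lift P ht
  set P1 : Sylow 2 G := g • P with hP1
  set y := g * y0 * g⁻¹ with hy
  have hyP : y ∈ (P1 : Subgroup G) := by
    rw [hP1, Sylow.coe_subgroup_smul, Subgroup.mem_smul_pointwise_iff_exists]
    exact ⟨y0, hy0, rfl⟩
  have hPab : ∀ a ∈ (P1 : Subgroup G), ∀ b ∈ (P1 : Subgroup G), Commute a b := by
    intro a ha b hb
    rw [hP1, Sylow.coe_subgroup_smul, Subgroup.mem_smul_pointwise_iff_exists] at ha hb
    obtain ⟨a, ha, rfl⟩ := ha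
    obtain ⟨b, hb, rfl⟩ := hb
    exact (hP a ha b hb).map (MulAut.conj g).toMonoidHom
  have hyc : y ∉ center G := fun h => by
    rw [show QuotientGroup.mk' (center G) y = 1 from (QuotientGroup.eq_one_iff y).2 h] at hgy
    rw [← hgy, orderOf_one] at ht
    exact absurd ht (by norm_num)
  have hy2 : y * y = 1 := by
    refine Q.eq_one_of_abelian P1 hPab (mul_mem hyP hyP) ((QuotientGroup.eq_one_iff _).1 ?_)
    show QuotientGroup.mk' (center G) (y * y) = 1
    rw [map_mul, hgy, ← pow_two, ← ht, pow_orderOf_eq_one]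
  set C := centralizer ({y} : Set G) with hC
  have hPC : (P1 : Subgroup G) ≤ C := fun a ha =>
    mem_centralizer_of_commute (hPab y hyP a ha)
  -- the image is the whole centraliser of `t`
  have himg : centralizer ({t} : Set (G ⧸ center G)) ≤ C.map (QuotientGroup.mk' (center G)) := by
    intro w hw
    obtain ⟨w, rfl⟩ := QuotientGroup.mk'_surjective (center G) w
    refine ⟨w, mem_centralizer_of_commute ?_, rfl⟩
    have hcz : ⁅w, y⁆ ∈ center G := by
      rw [← QuotientGroup.eq_one_iff]
      show QuotientGroup.mk' (center G) ⁅w, y⁆ = 1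
      rw [map_commutatorElement, hgy, commutatorElement_eq_one_iff_mul_comm]
      exact mem_centralizer_singleton_iff.1 hw
    set c := ⁅w, y⁆ with hcdef
    have hw1 : w * y * w⁻¹ = c * y := by rw [hcdef, commutatorElement_def]; group
    have hc2 : c * c = 1 := by
      have h1 : w * y * w⁻¹ * (w * y * w⁻¹) = 1 := by
        rw [show w * y * w⁻¹ * (w * y * w⁻¹) = w * (y * y) * w⁻¹ by group, hy2]; group
      rw [hw1, show c * y * (c * y) = c * (y * c) * y by group, mem_center_iff.1 hcz y,
        show c * (c * y) * y = c * c * (y * y) by group, hy2, mul_one] at h1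
      exact h1
    have hc1 : c = 1 := by
      have h2 : IsPGroup 2 (zpowers c) := by
        rcases eq_or_ne c 1 with h | h
        · exact IsPGroup.of_card (n := 0) (by simp [h])
        · exact IsPGroup.of_card (n := 1) (by
            rw [Nat.card_zpowers, pow_one]
            exact orderOf_eq_prime (by rw [pow_two, hc2]) h)
      refine Q.eq_one_of_abelian P1 hPab (Q.mem_sylow P1 h2 ?_) hcz
      rw [show QuotientGroup.mk' (center G) c = 1 from (QuotientGroup.eq_one_iff c).2 hcz]
      exact one_mem _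
    rw [hc1, one_mul] at hw1
    exact (mul_inv_eq_iff_eq_mul.1 hw1).symm
  -- the Sylow normaliser in the centraliser centralises the Sylow subgroup
  have hnorm : ∀ n ∈ normalizer ((P1 : Subgroup G) : Set G), Commute y n →
      ∀ a ∈ (P1 : Subgroup G), Commute a n := by
    intro n hn hyn a ha
    by_cases htop : normalizer ((P1 : Subgroup G) : Set G) = ⊤
    · haveI : (P1 : Subgroup G).Normal := normalizer_eq_top_iff.1 htop
      exact absurd (Q.normal_two_le _ P1.2 hyP) hyc
    by_cases hcen : ∀ m ∈ normalizer ((P1 : Subgroup G) : Set G), Commute y m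
    · exfalso
      refine Q.not_isolated P1 hyP (hy2 ▸ one_mem _) hyc fun m hm => ?_
      obtain ⟨n', hn', heq⟩ := P1.conj_eq_normalizer_conj_of_mem_centralizer y m
        (mem_centralizer_iff.2 fun a ha => (hPab y hyP a ha).symm.eq)
        (mem_centralizer_iff.2 fun a ha => (hPab _ hm a ha).symm.eq)
      rw [heq, mul_assoc, (hcen n' hn').eq, inv_mul_cancel_left]
    push Not at hcen
    obtain ⟨m, hm, hym⟩ := hcen
    exact Q.proper _ htop y (le_normalizer hyP) m hm hym a (le_normalizer ha) n hn
      (hPab y hyP a ha) hyn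
  have hsC : Group.IsSolvable C := by
    set R : Sylow 2 C := P1.subtype hPC with hR
    have hle : normalizer ((R : Subgroup C) : Set C) ≤ centralizer ((R : Subgroup C) : Set C) := by
      intro n hn
      refine mem_centralizer_iff.2 fun a ha => Subtype.ext ?_
      refine (hnorm n (mem_normalizer_of_conj_mem fun w hw => ?_)
        (commute_of_mem_centralizer n.2) a ha).eq
      exact (mem_normalizer_iff.1 hn ⟨w, hPC hw⟩).1 hw
    haveI : Group.IsSolvable (MonoidHom.transferSylow R hle).ker := by
      refine Cfsg.Agent.S0205.result (Nat.not_even_iff_odd.1 fun h => ?_)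
      exact MonoidHom.not_dvd_card_ker_transferSylow R hle h.two_dvd
    haveI : Group.IsNilpotent (R : Subgroup C) := R.2.isNilpotent
    exact Group.isSolvable_of_ker_le_range (MonoidHom.transferSylow R hle).ker.subtype
      (MonoidHom.transferSylow R hle) (by rw [range_subtype])
  haveI := hsC
  haveI : Group.IsSolvable (C.map (QuotientGroup.mk' (center G))) :=
    Group.isSolvable_of_surjective ((QuotientGroup.mk' (center G)).subgroupMap_surjective C)
  exact Group.isSolvable_of_isSolvable_injective (f := Subgroup.inclusion himg)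
    (Subgroup.inclusion_injective himg)

end CfsgLib.MinNonCA
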